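import Cfsg.Agent.Lib.CosetEnum.Defs

/-! Generated table data. -/

set_option autoImplicit false
set_option maxRecDepth 20000

namespace Cfsg.Lib.CosetEnum.Fi22Sub_bcde

/-- Table data. -/
def tabP_0_0 : Tab :=
  (.leaf 0x4000000000000000004000000000000000004000000000000000003000000000000000000000000000000000000000000000000000000000000000000000000000000000000000000000000000000000003000000000000000003000000000000000002000000000000000004000000000000000000000000000000000000000000000000000000000000000000000000000000000000000000000000000000000002000000000000000001000000000000000003000000000000000002000000000000000000000000000000000000000000000000000000000000000000000000000000000000000000000000000000000000000000000000000002000000000000000001000000000000000001000000000000000000000000000000000000000000000000000000000000000000000000000000000000000000000000000000000001000000000000000000000000000000000000000000000000000000000000000000000000)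

/-- Table data. -/
def tabP_0 : Tab :=
  tabP_0_0

end Cfsg.Lib.CosetEnum.Fi22Sub_bcde
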