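import Cfsg.Agent.Lib.CosetEnum.Defs

/-! Generated table data. -/

set_option autoImplicit false
set_option maxRecDepth 20000

namespace Cfsg.Lib.CosetEnum.Fi22Sub_bcde

/-- Table data. -/
def tabF_0_0 : Tab :=
  (.leaf 0x20000084000000000018000064000000000010000044000000000020000083000000000018000063000000000020000082000000000008000022000000000010000041000000000008000021000000000000000003000000000000000002000000000000000001000000000018000081000000000010000062000000000008000043000000000000000024)

/-- Table data. -/
def tabF_0 : Tab :=
  tabF_0_0

end Cfsg.Lib.CosetEnum.Fi22Sub_bcde
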